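import Mathlib.RingTheory.OrderOfVanishing.Basic
import Mathlib.RingTheory.DiscreteValuationRing.TFAE
import Mathlib.RingTheory.Valuation.LocalSubring
import Mathlib.RingTheory.Ideal.KrullsHeightTheorem
import Mathlib.RingTheory.AlgebraicIndependent.TranscendenceBasis
import Mathlib.RingTheory.Localization.Module
import Mathlib.RingTheory.Bezout
import Mathlib.RingTheory.QuotSMulTop
import Mathlib.FieldTheory.IntermediateField.Adjoin.Algebra
import Mathlib.FieldTheory.IntermediateField.Adjoin.Basic

/-! A Noetherian local domain is dominated by a discrete valuation ring of any finitely generated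
field extension of its fraction field (via a Krull–Akizuki length estimate). -/

set_option autoImplicit false

namespace Groth.Agent.DVRDom

open IsLocalRing
open scoped IntermediateField.algebraAdjoinAdjoin
open scoped Pointwise

universe u v

section length

variable {D : Type u} [CommRing D] [IsDomain D] [IsNoetherianRing D] [Ring.KrullDimLE 1 D]
  {M : Type v} [AddCommGroup M] [Module D M]

theorem length_quotSMul_pow (a : D) (hinj : Function.Injective (fun m : M => a • m)) (k : ℕ) :
    Module.length D (QuotSMulTop (a ^ k) M) = k * Module.length D (QuotSMulTop a M) := by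
  induction k with
  | zero =>
    haveI : Subsingleton (QuotSMulTop (a ^ 0) M) := Submodule.Quotient.subsingleton_iff.mpr
      (eq_top_iff.mpr fun x _ => ⟨x, trivial, by simp⟩)
    simp [Module.length_eq_zero]
  | succ k ih =>
    let f : QuotSMulTop (a ^ k) M →ₗ[D] QuotSMulTop (a ^ (k + 1)) M :=
      Submodule.mapQ _ _ (LinearMap.lsmul D M a) (by
        rintro _ ⟨x, -, rfl⟩
        exact ⟨x, trivial, by simp [pow_succ, smul_smul, mul_comm]⟩)
    let g : QuotSMulTop (a ^ (k + 1)) M →ₗ[D] QuotSMulTop a M :=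
      Submodule.factor (by
        rintro _ ⟨x, -, rfl⟩
        exact ⟨a ^ k • x, trivial, by simp [pow_succ, smul_smul, mul_comm]⟩)
    have hf : Function.Injective f := by
      rw [← LinearMap.ker_eq_bot, eq_bot_iff]
      intro z hz
      obtain ⟨m, rfl⟩ := Submodule.Quotient.mk_surjective _ z
      obtain ⟨x, -, hx⟩ := (Submodule.Quotient.mk_eq_zero _).mp hz
      refine (Submodule.Quotient.mk_eq_zero _).mpr ⟨x, trivial, hinj ?_⟩
      show a • (a ^ k • x) = a • m
      rw [smul_smul, ← pow_succ']
      exact hx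
    have hex : Function.Exact f g := by
      intro z
      constructor
      · intro hz
        obtain ⟨m, rfl⟩ := Submodule.Quotient.mk_surjective _ z
        obtain ⟨x, -, hx⟩ := (Submodule.Quotient.mk_eq_zero _).mp hz
        exact ⟨Submodule.Quotient.mk x, congrArg Submodule.Quotient.mk hx⟩
      · rintro ⟨w, rfl⟩
        obtain ⟨m, rfl⟩ := Submodule.Quotient.mk_surjective _ w
        exact (Submodule.Quotient.mk_eq_zero _).mpr ⟨m, trivial, rfl⟩
    rw [Module.length_eq_add_of_exact f g hf (Submodule.factor_surjective _) hex, ih, Nat.cast_succ,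
      add_mul, one_mul]

/-- Krull–Akizuki estimate. -/
theorem length_quotSMul_le [Module.IsTorsionFree D M] {ι : Type} [Fintype ι]
    (F : (ι → D) →ₗ[D] M) (hF : Function.Injective F) {b : D} (hb : b ≠ 0)
    (hbM : ∀ m : M, b • m ∈ LinearMap.range F) {a : D} (ha : a ≠ 0) :
    Module.length D (QuotSMulTop a M) ≤ Fintype.card ι * Ring.ord D a := by
  classical
  have hinj : ∀ c : D, c ≠ 0 → Function.Injective (fun m : M => c • m) :=
    fun c hc => smul_right_injective M hc
  let G : M →ₗ[D] (ι → D) :=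
    (LinearEquiv.ofInjective F hF).symm.toLinearMap ∘ₗ
      (LinearMap.lsmul D M b).codRestrict _ hbM
  have hG : ∀ m, F (G m) = b • m := fun m =>
    congrArg Subtype.val ((LinearEquiv.ofInjective F hF).apply_symm_apply ⟨b • m, hbM m⟩)
  have key : ∀ k : ℕ, (k : ℕ∞) * Module.length D (QuotSMulTop a M) ≤
      Fintype.card ι * (k * Ring.ord D a + Ring.ord D b) := by
    intro k
    rw [← length_quotSMul_pow a (hinj a ha) k]
    let φ : (ι → D) →ₗ[D] (ι → D ⧸ Ideal.span {a ^ k * b}) :=
      LinearMap.pi fun i => (Ideal.span {a ^ k * b}).mkQ ∘ₗ LinearMap.proj i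
    have hker : ∀ m : M, G m ∈ LinearMap.ker φ → m ∈ a ^ k • (⊤ : Submodule D M) := by
      intro m hm
      have hdvd : ∀ i, ∃ r, r * (a ^ k * b) = G m i := fun i =>
        Ideal.mem_span_singleton'.mp ((Submodule.Quotient.mk_eq_zero _).mp (congrFun hm i))
      choose r hr using hdvd
      refine ⟨F r, trivial, ?_⟩
      apply hinj b hb
      show b • (a ^ k • F r) = b • m
      rw [← hG m, smul_smul, ← map_smul]
      congr 1
      funext i
      simp only [Pi.smul_apply, smul_eq_mul]
      rw [← hr i]; ring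
    have hle : LinearMap.ker (φ ∘ₗ G) ≤ a ^ k • (⊤ : Submodule D M) := fun m hm => hker m hm
    calc Module.length D (QuotSMulTop (a ^ k) M)
        ≤ Module.length D (M ⧸ LinearMap.ker (φ ∘ₗ G)) :=
          Module.length_le_of_surjective (Submodule.factor hle) (Submodule.factor_surjective hle)
      _ ≤ Module.length D (ι → D ⧸ Ideal.span {a ^ k * b}) :=
          Module.length_le_of_injective ((LinearMap.ker (φ ∘ₗ G)).liftQ (φ ∘ₗ G) le_rfl)
            (LinearMap.ker_eq_bot.mp (Submodule.ker_liftQ_eq_bot _ _ _ le_rfl))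
      _ = Fintype.card ι * Ring.ord D (a ^ k * b) := by
          rw [Module.length_pi, ENat.card_eq_coe_fintype_card]; rfl
      _ = Fintype.card ι * (k * Ring.ord D a + Ring.ord D b) := by
          rw [Ring.ord_mul D (mem_nonZeroDivisors_of_ne_zero hb),
            Ring.ord_pow (mem_nonZeroDivisors_of_ne_zero ha), nsmul_eq_mul]
  obtain ⟨l, hl⟩ := ENat.ne_top_iff_exists.mp (Ring.ord_ne_top (mem_nonZeroDivisors_of_ne_zero ha))
  obtain ⟨m, hm⟩ := ENat.ne_top_iff_exists.mp (Ring.ord_ne_top (mem_nonZeroDivisors_of_ne_zero hb))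
  rw [← hl, ← hm] at key
  rw [← hl]
  have hq : Module.length D (QuotSMulTop a M) ≠ ⊤ := fun h => by
    have := key 1
    rw [h, Nat.cast_one, one_mul, one_mul, top_le_iff] at this
    exact ENat.natCast_ne_top (Fintype.card ι * (l + m)) (by rw [← this]; push_cast; rfl)
  obtain ⟨q, hq⟩ := ENat.ne_top_iff_exists.mp hq
  rw [← hq] at key ⊢
  have := key (Fintype.card ι * m + 1)
  norm_cast at this ⊢
  by_contra hlt
  rw [not_le] at hlt
  have h1 : (Fintype.card ι * m + 1) * (Fintype.card ι * l + 1) ≤ (Fintype.card ι * m + 1) * q :=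
    Nat.mul_le_mul_left _ hlt
  nlinarith

end length

section dimOne

variable {D : Type u} [CommRing D] [IsDomain D] [IsNoetherianRing D] [Ring.KrullDimLE 1 D]
  (K₀ : Type u) [Field K₀] [Algebra D K₀] [IsFractionRing D K₀]
  {L : Type u} [Field L] [Algebra D L] [Algebra K₀ L] [IsScalarTower D K₀ L] [FiniteDimensional K₀ L]

include K₀

omit [IsNoetherianRing D] [Ring.KrullDimLE 1 D] in
theorem exists_div_mem {W : ValuationSubring L} (hW : ∀ d : D, algebraMap D L d ∈ W) {w : L}
    (hw : w ∈ W) (hw0 : w ≠ 0) : ∃ d : D, d ≠ 0 ∧ algebraMap D L d / w ∈ W := by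
  haveI : Algebra.IsAlgebraic D L :=
    (IsFractionRing.comap_isAlgebraic_iff (A := D) (K := K₀) (C := L)).mpr inferInstance
  obtain ⟨p, hp0, hp⟩ :=
    (Algebra.IsAlgebraic.isAlgebraic (R := D) w).exists_nonzero_coeff_and_aeval_eq_zero
      (mem_nonZeroDivisors_of_ne_zero hw0)
  refine ⟨p.coeff 0, hp0, ?_⟩
  have hmem : Polynomial.aeval w p.divX ∈ W := by
    rw [Polynomial.aeval_eq_sum_range]
    exact sum_mem fun i _ => by rw [Algebra.smul_def]; exact mul_mem (hW _) (pow_mem hw i)
  have heq : algebraMap D L (p.coeff 0) / w = -Polynomial.aeval w p.divX := by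
    rw [div_eq_iff hw0]
    have h := congrArg (Polynomial.aeval w) p.X_mul_divX_add
    rw [map_add, map_mul, Polynomial.aeval_X, Polynomial.aeval_C, hp] at h
    linear_combination h
  rw [heq]
  exact neg_mem hmem

/-- A valuation ring of a finite extension of the fraction field of a one-dimensional Noetherian
domain, containing the domain, is Noetherian. -/
theorem isNoetherianRing_valuationSubring (W : ValuationSubring L)
    (hW : ∀ d : D, algebraMap D L d ∈ W) : IsNoetherianRing W := by
  classical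
  haveI : FaithfulSMul D L := (faithfulSMul_iff_algebraMap_injective D L).mpr (by
    rw [IsScalarTower.algebraMap_eq D K₀ L]
    exact (algebraMap K₀ L).injective.comp (IsFractionRing.injective D K₀))
  haveI : Module.IsTorsionFree D L := Module.isTorsionFree_iff_faithfulSMul.mpr inferInstance
  let Cw : Submodule D L :=
    { carrier := (W : Set L)
      add_mem' := fun ha hb => add_mem ha hb
      zero_mem' := zero_mem W
      smul_mem' := fun d x hx => by
        show d • x ∈ W
        rw [Algebra.smul_def]; exact mul_mem (hW d) hx }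
  -- a basis of `L` inside `W`
  let e := Module.finBasis K₀ L
  have hscale : ∀ i, ∃ d : D, d ≠ 0 ∧ d • e i ∈ W := by
    intro i
    rcases W.mem_or_inv_mem (e i) with h | h
    · exact ⟨1, one_ne_zero, by rwa [one_smul]⟩
    · obtain ⟨d, hd, hdw⟩ := exists_div_mem K₀ hW h (inv_ne_zero (e.ne_zero i))
      exact ⟨d, hd, by rwa [Algebra.smul_def, ← div_inv_eq_mul]⟩
  choose d hd hde using hscale
  let v : Fin (Module.finrank K₀ L) → L := fun i => d i • e i
  let F : (Fin (Module.finrank K₀ L) → D) →ₗ[D] L := Fintype.linearCombination D v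
  have hv : ∀ i, v i = algebraMap D K₀ (d i) • e i := fun i => (algebraMap_smul K₀ (d i) (e i)).symm
  have hd' : ∀ i, algebraMap D K₀ (d i) ≠ 0 := fun i h =>
    hd i (IsFractionRing.injective D K₀ (h.trans (map_zero _).symm))
  let e' := e.isUnitSMul (w := fun i => algebraMap D K₀ (d i)) fun i => (hd' i).isUnit
  have he' : ∀ i, e' i = v i := fun i => by rw [hv]; exact Module.Basis.isUnitSMul_apply _ _
  have hFinj : Function.Injective F := by
    exact LinearIndependent.fintypeLinearCombination_injective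
      ((LinearIndependent.iff_fractionRing D K₀).mpr (by
        exact (show (⇑e' : _ → L) = v from funext he') ▸ e'.linearIndependent))
  have hden : ∀ x : L, ∃ b : D, b ≠ 0 ∧ b • x ∈ LinearMap.range F := by
    intro x
    obtain ⟨⟨b, hb⟩, hbr⟩ := IsLocalization.exist_integer_multiples_of_finite (nonZeroDivisors D)
      (fun i => e'.repr x i)
    refine ⟨b, nonZeroDivisors.ne_zero hb, ?_⟩
    choose c hc using hbr
    refine ⟨c, ?_⟩
    rw [Fintype.linearCombination_apply]
    conv_rhs => rw [← e'.sum_repr x, Finset.smul_sum]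
    refine Finset.sum_congr rfl fun i _ => ?_
    rw [he', ← algebraMap_smul K₀ (c i) (v i)]
    show algebraMap D K₀ (c i) • v i = b • e'.repr x i • v i
    rw [hc i, smul_assoc]
  -- finitely generated submodules of `W / aW` have bounded length
  refine isNoetherianRing_iff_ideal_fg W |>.mpr fun J => ?_
  by_cases hJ : J = ⊥
  · subst hJ; exact Submodule.fg_bot
  obtain ⟨w, hwJ, hw0⟩ := Submodule.exists_mem_ne_zero_of_ne_bot hJ
  obtain ⟨a, ha, haw⟩ := exists_div_mem K₀ hW w.2 (fun h => hw0 (Subtype.ext h))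
  have haJ : (⟨algebraMap D L a, hW a⟩ : W) ∈ J := by
    have : (⟨algebraMap D L a, hW a⟩ : W) = ⟨_, haw⟩ * w :=
      Subtype.ext (div_mul_cancel₀ _ fun h => hw0 (Subtype.ext h)).symm
    rw [this]; exact J.mul_mem_left _ hwJ
  let π := (a • Cw).mkQ
  let B : ℕ∞ := Fintype.card (Fin (Module.finrank K₀ L)) * Ring.ord D a
  have hB : B ≠ ⊤ := by
    obtain ⟨l, hl⟩ := ENat.ne_top_iff_exists.mp (Ring.ord_ne_top (mem_nonZeroDivisors_of_ne_zero ha))
    simp only [B, ← hl]
    exact ENat.coe_ne_top _
  have hbound : ∀ s : Finset L, (↑s : Set L) ⊆ W →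
      Module.length D (Submodule.span D (π '' s)) ≤ B := by
    intro s hs
    let M : Submodule D L := LinearMap.range F ⊔ Submodule.span D s
    have hFW : LinearMap.range F ≤ Cw := by
      rintro _ ⟨c, rfl⟩
      rw [Fintype.linearCombination_apply]
      exact sum_mem fun i _ => Cw.smul_mem _ (hde i)
    have hMW : M ≤ Cw := sup_le hFW (Submodule.span_le.mpr hs)
    choose b hb hbx using hden
    let β := ∏ x ∈ s, b x
    have hβ : β ≠ 0 := Finset.prod_ne_zero_iff.mpr fun x _ => hb x
    have hβM : ∀ m ∈ M, β • m ∈ LinearMap.range F := by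
      have : M ≤ (LinearMap.range F).comap (LinearMap.lsmul D L β) := by
        refine sup_le (fun m hm => Submodule.smul_mem _ β hm) (Submodule.span_le.mpr fun x hx => ?_)
        show β • x ∈ LinearMap.range F
        simp only [β]
        rw [← Finset.prod_erase_mul _ _ hx, mul_smul]
        exact Submodule.smul_mem _ _ (hbx x)
      exact this
    let F' : (Fin (Module.finrank K₀ L) → D) →ₗ[D] M :=
      F.codRestrict M fun c => Submodule.mem_sup_left ⟨c, rfl⟩
    have h1 := length_quotSMul_le F' (fun x y h => hFinj (congrArg Subtype.val h)) hβ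
      (fun m => by obtain ⟨c, hc⟩ := hβM m m.2; exact ⟨c, Subtype.ext hc⟩) ha
    let ψ : QuotSMulTop a M →ₗ[D] L ⧸ a • Cw :=
      Submodule.mapQ _ _ M.subtype (by
        rintro _ ⟨x, -, rfl⟩
        exact ⟨x, hMW x.2, rfl⟩)
    have hsub : Submodule.span D (π '' s) ≤ LinearMap.range ψ := by
      rw [Submodule.span_le]
      rintro _ ⟨x, hx, rfl⟩
      exact ⟨Submodule.Quotient.mk ⟨x, Submodule.mem_sup_right (Submodule.subset_span hx)⟩, rfl⟩
    exact le_trans (Module.length_le_of_injective (Submodule.inclusion hsub)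
      (Submodule.inclusion_injective hsub))
      (le_trans (Module.length_le_of_surjective ψ.rangeRestrict ψ.surjective_rangeRestrict) h1)
  -- choose a finite subset of `J` of maximal length
  let S : Set ℕ∞ :=
    { n | ∃ s : Finset L, (∀ x ∈ s, ∃ hx : x ∈ W, (⟨x, hx⟩ : W) ∈ J) ∧
        Module.length D (Submodule.span D (π '' s)) = n }
  have hSfin : S.Finite := by
    obtain ⟨N, hN⟩ := ENat.ne_top_iff_exists.mp hB
    refine ((Set.finite_Iic N).image (Nat.cast : ℕ → ℕ∞)).subset ?_
    rintro n ⟨s, hs, rfl⟩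
    have hle := hN ▸ hbound s fun x hx => (hs x hx).1
    obtain ⟨m, hm⟩ := ENat.ne_top_iff_exists.mp (ne_top_of_le_ne_top (ENat.coe_ne_top N) hle)
    rw [← hm] at hle ⊢
    exact ⟨m, by exact_mod_cast hle, rfl⟩
  obtain ⟨n, ⟨s, hs, rfl⟩, hmax⟩ := hSfin.exists_maximal ⟨_, ∅, by simp, rfl⟩
  let T : Finset W :=
    insert ⟨algebraMap D L a, hW a⟩ (s.attach.image fun x => (⟨x.1, (hs x.1 x.2).1⟩ : W))
  refine ⟨T, le_antisymm ?_ ?_⟩
  · rw [Ideal.span_le]
    intro x hx
    rcases Finset.mem_insert.mp hx with rfl | hx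
    · exact haJ
    · obtain ⟨y, -, rfl⟩ := Finset.mem_image.mp hx
      exact (hs y.1 y.2).2
  intro x hx
  set I : Ideal W := Submodule.span W (T : Set W) with hI
  have hmem : π x.1 ∈ Submodule.span D (π '' s) := by
    by_contra hnot
    have hs' : ∀ y ∈ insert x.1 s, ∃ hy : y ∈ W, (⟨y, hy⟩ : W) ∈ J := by
      intro y hy
      rcases Finset.mem_insert.mp hy with rfl | hy
      exacts [⟨x.2, hx⟩, hs y hy]
    have hle : Submodule.span D (π '' s) ≤ Submodule.span D (π '' ↑(insert x.1 s)) :=
      Submodule.span_mono (Set.image_mono (by simp))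
    have hne : Module.length D (Submodule.span D (π '' ↑(insert x.1 s))) ≠ ⊤ :=
      ne_top_of_le_ne_top hB (hbound _ fun y hy => (hs' y hy).1)
    obtain ⟨hno, har⟩ := isFiniteLength_iff_isNoetherian_isArtinian.mp (Module.length_ne_top_iff.mp hne)
    have hlt : Module.length D (Submodule.span D (π '' s)) <
        Module.length D (Submodule.span D (π '' ↑(insert x.1 s))) := by
      refine lt_of_le_of_lt (b := Module.length D ((Submodule.span D (π '' s)).comap
          (Submodule.span D (π '' ↑(insert x.1 s))).subtype)) ?_ ?_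
      · exact Module.length_le_of_surjective (Submodule.comapSubtypeEquivOfLe hle).toLinearMap
          (Submodule.comapSubtypeEquivOfLe hle).surjective
      refine Submodule.length_lt fun h => hnot ?_
      have : (⟨π x.1, Submodule.subset_span ⟨x.1, by simp, rfl⟩⟩ :
          Submodule.span D (π '' ↑(insert x.1 s))) ∈
            (Submodule.span D (π '' s)).comap (Submodule.span D (π '' ↑(insert x.1 s))).subtype :=
        h ▸ Submodule.mem_top
      exact this
    exact absurd (hmax ⟨_, hs', rfl⟩ hlt.le) (not_le_of_gt hlt)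
  have hmem' : x.1 ∈ a • Cw ⊔ Submodule.span D (s : Set L) := by
    have : x.1 ∈ (Submodule.span D (π '' s)).comap π := hmem
    rwa [← Submodule.map_span, Submodule.comap_map_mkQ] at this
  obtain ⟨_, ⟨c, hc, rfl⟩, t, ht, hct⟩ := Submodule.mem_sup.mp hmem'
  have hsub : ∀ t ∈ Submodule.span D (s : Set L), ∃ y : W, y ∈ I ∧ (y : L) = t := by
    intro t ht
    refine Submodule.span_induction (fun y hy => ?_) ⟨0, zero_mem _, rfl⟩ ?_ ?_ ht
    · have hyI : (⟨y, (hs y hy).1⟩ : W) ∈ I := by
        refine Submodule.subset_span ?_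
        simp only [T, Finset.coe_insert, Set.mem_insert_iff, Finset.mem_coe, Finset.mem_image]
        exact Or.inr ⟨⟨y, hy⟩, Finset.mem_attach _ _, rfl⟩
      exact ⟨_, hyI, rfl⟩
    · rintro _ _ _ _ ⟨y, hy, rfl⟩ ⟨z, hz, rfl⟩
      exact ⟨y + z, add_mem hy hz, rfl⟩
    · rintro r _ _ ⟨y, hy, rfl⟩
      exact ⟨⟨algebraMap D L r, hW r⟩ * y, I.mul_mem_left _ hy, (Algebra.smul_def r (y : L)).symm⟩
  obtain ⟨y, hyI, hy⟩ := hsub t ht
  have hx' : x = (⟨c, hc⟩ : W) * ⟨algebraMap D L a, hW a⟩ + y := by
    apply Subtype.ext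
    show x.1 = c * algebraMap D L a + (y : L)
    rw [← hct, hy, mul_comm, ← Algebra.smul_def]
    rfl
  rw [hx']
  exact add_mem (I.mul_mem_left _ (Submodule.subset_span (by simp [T]))) hyI

theorem exists_dvr_dominating_of_krullDimLE_one [IsLocalRing D] (hD : ¬ IsField D) :
    ∃ W : ValuationSubring L, IsDiscreteValuationRing W ∧ (∀ d : D, algebraMap D L d ∈ W) ∧
      ∀ d ∈ maximalIdeal D, W.valuation (algebraMap D L d) < 1 := by
  have hinj : Function.Injective (algebraMap D L) := by
    rw [IsScalarTower.algebraMap_eq D K₀ L]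
    exact (algebraMap K₀ L).injective.comp (IsFractionRing.injective D K₀)
  let e := RingEquiv.ofBijective (algebraMap D L).rangeRestrict
    ⟨fun x y h => hinj (congrArg Subtype.val h), (algebraMap D L).rangeRestrict_surjective⟩
  obtain ⟨W, hle, hnon⟩ := Ideal.image_subset_nonunits_valuationSubring (K := L)
    ((maximalIdeal D).map e.toRingHom) (by
      intro h
      refine (maximalIdeal.isMaximal D).ne_top ?_
      have := congrArg (Ideal.comap e.toRingHom) h
      rwa [Ideal.comap_map_of_bijective e.toRingHom e.bijective, Ideal.comap_top] at this)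
  have hW : ∀ d : D, algebraMap D L d ∈ W := fun d => hle ⟨d, rfl⟩
  have hdom : ∀ d ∈ maximalIdeal D, W.valuation (algebraMap D L d) < 1 := fun d hd =>
    (ValuationSubring.mem_nonunits_iff _).mp (hnon ⟨e d, Ideal.mem_map_of_mem _ hd, rfl⟩)
  refine ⟨W, ?_, hW, hdom⟩
  haveI := isNoetherianRing_valuationSubring K₀ W hW
  have hWf : ¬ IsField W := by
    obtain ⟨d, hd, hd0⟩ := Submodule.exists_mem_ne_zero_of_ne_bot
      (IsLocalRing.isField_iff_maximalIdeal_eq.not.mp hD)
    intro hf
    have hmem := (W.valuation_lt_one_iff ⟨algebraMap D L d, hW d⟩).mpr (hdom d hd)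
    rw [IsLocalRing.isField_iff_maximalIdeal_eq.mp hf, Ideal.mem_bot] at hmem
    exact hd0 (hinj ((congrArg Subtype.val hmem).trans (map_zero _).symm))
  have hVR : ValuationRing W := inferInstance
  exact ((IsDiscreteValuationRing.TFAE W hWf).out 0 1).mpr hVR

end dimOne

/-- A Noetherian local domain, not a field, is dominated by a discrete valuation ring of every
finitely generated field extension of its fraction field. -/
theorem exists_dvr_dominating (A : Type u) [CommRing A] [IsDomain A] [IsNoetherianRing A]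
    [IsLocalRing A] (hA : ¬ IsField A) (K : Type u) [Field K] [Algebra A K] [IsFractionRing A K]
    (L : Type u) [Field L] [Algebra K L] [Algebra A L] [IsScalarTower A K L]
    (hfg : (⊤ : IntermediateField K L).FG) :
    ∃ R : ValuationSubring L, IsDiscreteValuationRing R ∧ (∀ a : A, algebraMap A L a ∈ R) ∧
      ∀ a ∈ maximalIdeal A, R.valuation (algebraMap A L a) < 1 := by
  classical
  obtain ⟨g, hg⟩ := hfg
  obtain ⟨t, hts, ht⟩ : ∃ t : Set L, t ⊆ ↑g ∧ IsTranscendenceBasis K ((↑) : t → L) := by
    haveI : Algebra.IsAlgebraic (Algebra.adjoin K (g : Set L)) L := by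
      haveI : Algebra.IsAlgebraic (IntermediateField.adjoin K (g : Set L)) L := by
        refine ⟨fun x => ?_⟩
        have hx : x ∈ IntermediateField.adjoin K (g : Set L) := hg.ge trivial
        exact isAlgebraic_algebraMap (⟨x, hx⟩ : IntermediateField.adjoin K (g : Set L))
      exact (IsFractionRing.comap_isAlgebraic_iff (A := Algebra.adjoin K (g : Set L))
        (K := IntermediateField.adjoin K (g : Set L)) (C := L)).mpr inferInstance
    exact exists_isTranscendenceBasis_subset (g : Set L)
  haveI : Finite t := (g.finite_toSet.subset hts).to_subtype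
  have hinjAK : Function.Injective (algebraMap A K) := IsFractionRing.injective A K
  have hai : AlgebraicIndependent A ((↑) : t → L) := ht.1.restrictScalars hinjAK
  set K₀ := IntermediateField.adjoin K t with hK₀
  haveI : IsScalarTower A K₀ L := IsScalarTower.of_algebraMap_eq fun _ => rfl
  haveI : FiniteDimensional K₀ L := by
    haveI : Algebra.IsAlgebraic K₀ L := by
      have := ht.isAlgebraic_field
      rwa [Subtype.range_coe] at this
    have htop : IntermediateField.adjoin K₀ (g : Set L) = ⊤ := by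
      apply IntermediateField.restrictScalars_injective K
      rw [IntermediateField.restrictScalars_top, eq_top_iff, ← hg]
      exact IntermediateField.adjoin_le_iff.mpr (IntermediateField.subset_adjoin K₀ _)
    have := IntermediateField.finiteDimensional_adjoin (K := K₀) (S := (g : Set L))
      fun x _ => (Algebra.IsAlgebraic.isAlgebraic x).isIntegral
    rw [htop] at this
    exact IntermediateField.topEquiv.toLinearEquiv.finiteDimensional
  -- the ring `B = A[t]` inside `K₀`
  let τ : t → K₀ := fun i => ⟨i.1, IntermediateField.subset_adjoin K t i.2⟩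
  have hτ : AlgebraicIndependent A τ :=
    AlgebraicIndependent.of_comp (IsScalarTower.toAlgHom A K₀ L) hai
  obtain ⟨gm, hgm⟩ := (IsNoetherian.noetherian (maximalIdeal A) : (maximalIdeal A).FG)
  let P0 : Set K₀ := algebraMap A K₀ '' ↑gm ∪ Set.range τ
  have hP0fin : P0.Finite := (gm.finite_toSet.image _).union (Set.finite_range τ)
  obtain ⟨V, hAV, hPV⟩ : ∃ V : ValuationSubring K₀, (∀ a, algebraMap A K₀ a ∈ V) ∧
      ∀ y ∈ P0, y ∈ V.nonunits := by
    let B := (Algebra.adjoin A (Set.range τ)).toSubring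
    let θ : B →+* ResidueField A :=
      (MvPolynomial.eval₂Hom (residue A) (fun _ => 0)).comp
        hτ.aevalEquiv.symm.toAlgHom.toRingHom
    obtain ⟨V, hBV, hV⟩ := Ideal.image_subset_nonunits_valuationSubring (RingHom.ker θ)
      (RingHom.ker_ne_top θ)
    refine ⟨V, fun a => hBV (Subalgebra.algebraMap_mem _ a), ?_⟩
    rintro y (⟨a, ha, rfl⟩ | ⟨i, rfl⟩)
    · refine hV ⟨⟨_, Subalgebra.algebraMap_mem _ a⟩, ?_, rfl⟩
      show MvPolynomial.eval₂Hom (residue A) (fun _ => 0)
        (hτ.aevalEquiv.symm (algebraMap A (Algebra.adjoin A (Set.range τ)) a)) = 0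
      rw [AlgEquiv.commutes, MvPolynomial.algebraMap_eq, MvPolynomial.eval₂Hom_C,
        residue_eq_zero_iff, ← hgm]
      exact Submodule.subset_span ha
    · refine hV ⟨⟨_, Algebra.subset_adjoin ⟨i, rfl⟩⟩, ?_, rfl⟩
      show MvPolynomial.eval₂Hom (residue A) (fun _ => 0) (hτ.aevalEquiv.symm ⟨τ i, _⟩) = 0
      have : hτ.aevalEquiv (MvPolynomial.X i) = ⟨τ i, Algebra.subset_adjoin ⟨i, rfl⟩⟩ :=
        Subtype.ext (by simp [AlgebraicIndependent.aevalEquiv])
      rw [← this, AlgEquiv.symm_apply_apply, MvPolynomial.eval₂Hom_X']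
  have hne : ∃ y ∈ P0, y ≠ 0 := by
    by_contra! h
    refine hA (IsLocalRing.isField_iff_maximalIdeal_eq.mpr ?_)
    rw [← hgm, Submodule.span_eq_bot]
    intro a ha
    have h0 : algebraMap A K₀ a = 0 := h _ (Or.inl ⟨a, ha, rfl⟩)
    rw [IsScalarTower.algebraMap_apply A K K₀] at h0
    exact hinjAK (((algebraMap K K₀).injective (h0.trans (map_zero _).symm)).trans (map_zero _).symm)
  obtain ⟨x, hxP, hxmax⟩ := Set.exists_max_image P0 V.valuation hP0fin ⟨_, hne.choose_spec.1⟩
  have hx0 : x ≠ 0 := by
    rintro rfl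
    obtain ⟨y, hy, hy0⟩ := hne
    have := hxmax y hy
    rw [map_zero, le_zero_iff, Valuation.zero_iff] at this
    exact hy0 this
  have hVle : ∀ y ∈ P0, y ∈ V := fun y hy => ValuationSubring.nonunits_le (hPV y hy)
  let B₁ : Subalgebra A K₀ := Algebra.adjoin A (P0 ∪ (fun y => y / x) '' P0)
  have hB₁V : ∀ z ∈ B₁, z ∈ V := by
    intro z hz
    refine Algebra.adjoin_induction ?_ (fun a => hAV a) (fun _ _ _ _ h1 h2 => add_mem h1 h2)
      (fun _ _ _ _ h1 h2 => mul_mem h1 h2) hz
    rintro z (hz | ⟨y, hy, rfl⟩)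
    · exact hVle z hz
    · rw [← ValuationSubring.valuation_le_one_iff, map_div₀]
      exact div_le_one_of_le₀ (hxmax y hy) zero_le
  haveI : IsNoetherianRing B₁ := by
    haveI : Algebra.FiniteType A B₁ := (Subalgebra.fg_iff_finiteType _).mp
      (Subalgebra.fg_def.mpr ⟨_, hP0fin.union (hP0fin.image _), rfl⟩)
    exact Algebra.FiniteType.isNoetherianRing A B₁
  let xB : B₁ := ⟨x, Algebra.subset_adjoin (Or.inl hxP)⟩
  have hxBu : ¬ IsUnit xB := by
    rintro ⟨u, hu⟩
    have h1 : x * (↑(↑u⁻¹ : B₁) : K₀) = 1 := by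
      have := congrArg Subtype.val u.mul_inv
      rw [hu] at this
      exact this
    have h2 : V.valuation x * V.valuation (↑(↑u⁻¹ : B₁) : K₀) = 1 := by rw [← map_mul, h1, map_one]
    exact (h2 ▸ mul_lt_one_of_lt_of_le ((ValuationSubring.mem_nonunits_iff _).mp (hPV x hxP))
      ((V.valuation_le_one_iff _).mpr (hB₁V _ (↑u⁻¹ : B₁).2))).false
  obtain ⟨P, hP⟩ := Ideal.nonempty_minimalPrimes (I := Ideal.span {xB})
    (fun h => hxBu (Ideal.span_singleton_eq_top.mp h))
  haveI : P.IsPrime := hP.1.1
  have hxP' : xB ∈ P := hP.1.2 (Ideal.mem_span_singleton_self xB)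
  have hP1 : P.height ≤ 1 := Ideal.height_le_one_of_isPrincipal_of_mem_minimalPrimes (Ideal.span {xB}) P hP
  -- `K₀` is the fraction field of `B₁`
  haveI : IsFractionRing B₁ K₀ := by
    refine IsFractionRing.of_field B₁ K₀ fun z => ?_
    obtain ⟨r, s, hrs⟩ := IntermediateField.mem_adjoin_iff K z.1 |>.mp z.2
    have hgen : ∀ p : MvPolynomial t K, ∃ (b : B₁) (c : A), c ≠ 0 ∧
        algebraMap A L c * MvPolynomial.aeval ((↑) : t → L) p = ((b : K₀) : L) := by
      intro p
      induction p using MvPolynomial.induction_on with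
      | C k =>
        obtain ⟨a, c, hc, hk⟩ := IsFractionRing.div_surjective (A := A) k
        refine ⟨algebraMap A B₁ a, c, nonZeroDivisors.ne_zero hc, ?_⟩
        rw [MvPolynomial.aeval_C, IsScalarTower.algebraMap_apply A K L, ← map_mul, ← hk,
          mul_div_cancel₀ _ (fun h => nonZeroDivisors.ne_zero hc (hinjAK (h.trans (map_zero _).symm))),
          ← IsScalarTower.algebraMap_apply A K L]
        rfl
      | add p q hp hq =>
        obtain ⟨b, c, hc, h⟩ := hp
        obtain ⟨b', c', hc', h'⟩ := hq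
        refine ⟨algebraMap A B₁ c' * b + algebraMap A B₁ c * b', c * c', mul_ne_zero hc hc', ?_⟩
        show _ = algebraMap A L c' * ((b : K₀) : L) + algebraMap A L c * ((b' : K₀) : L)
        rw [← h, ← h', map_mul, map_add]; ring
      | mul_X p i hp =>
        obtain ⟨b, c, hc, h⟩ := hp
        refine ⟨b * ⟨τ i, Algebra.subset_adjoin (Or.inl (Or.inr ⟨i, rfl⟩))⟩, c, hc, ?_⟩
        show _ = ((b : K₀) : L) * i.1
        rw [← h, map_mul, MvPolynomial.aeval_X]; ring
    obtain ⟨b, c, hc, h⟩ := hgen r
    obtain ⟨b', c', hc', h'⟩ := hgen s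
    refine ⟨algebraMap A B₁ c' * b, algebraMap A B₁ c * b', Subtype.ext (Eq.symm ?_)⟩
    show ((algebraMap A K₀ c' * (b : K₀) : K₀) : L) / ((algebraMap A K₀ c * (b' : K₀) : K₀) : L) = z.1
    push_cast
    rw [show ((algebraMap A K₀ c' : K₀) : L) = algebraMap A L c' from (IsScalarTower.algebraMap_apply A K₀ L c').symm,
      show ((algebraMap A K₀ c : K₀) : L) = algebraMap A L c from (IsScalarTower.algebraMap_apply A K₀ L c).symm]
    rw [← h, ← h', hrs]
    have hcL : algebraMap A L c ≠ 0 := by
      rw [IsScalarTower.algebraMap_apply A K L]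
      exact (map_ne_zero _).mpr fun h => hc (hinjAK (h.trans (map_zero (algebraMap A K)).symm))
    have hcL' : algebraMap A L c' ≠ 0 := by
      rw [IsScalarTower.algebraMap_apply A K L]
      exact (map_ne_zero _).mpr fun h => hc' (hinjAK (h.trans (map_zero (algebraMap A K)).symm))
    field_simp
  letI : Algebra (Localization.AtPrime P) K₀ :=
    (IsLocalization.lift (M := P.primeCompl) (g := algebraMap B₁ K₀)
      fun y => isUnit_iff_ne_zero.mpr fun h => y.2 (by
        rw [show (y : B₁) = 0 from Subtype.ext h]; exact P.zero_mem)).toAlgebra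
  haveI : IsScalarTower B₁ (Localization.AtPrime P) K₀ :=
    IsScalarTower.of_algebraMap_eq fun b => (IsLocalization.lift_eq _ b).symm
  haveI : IsDomain (Localization.AtPrime P) := IsLocalization.isDomain_localization P.primeCompl_le_nonZeroDivisors
  haveI : IsFractionRing (Localization.AtPrime P) K₀ :=
    IsFractionRing.isFractionRing_of_isDomain_of_isLocalization P.primeCompl (Localization.AtPrime P) K₀
  haveI : Ring.KrullDimLE 1 (Localization.AtPrime P) := by
    rw [Ring.KrullDimLE, Order.krullDimLE_iff]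
    show ringKrullDim _ ≤ _
    rw [IsLocalization.AtPrime.ringKrullDim_eq_height P]
    exact WithBot.coe_le_coe.mpr hP1
  have hD : ¬ IsField (Localization.AtPrime P) := by
    rw [IsLocalRing.isField_iff_maximalIdeal_eq]
    intro h
    have hm : algebraMap B₁ (Localization.AtPrime P) xB ∈ maximalIdeal _ := by
      rw [← Localization.AtPrime.map_eq_maximalIdeal]; exact Ideal.mem_map_of_mem _ hxP'
    rw [h, Ideal.mem_bot] at hm
    exact hx0 (congrArg Subtype.val
      (IsLocalization.injective (Localization.AtPrime P) P.primeCompl_le_nonZeroDivisors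
        (hm.trans (map_zero _).symm)))
  letI : Algebra (Localization.AtPrime P) L :=
    ((algebraMap K₀ L).comp (algebraMap (Localization.AtPrime P) K₀)).toAlgebra
  haveI : IsScalarTower (Localization.AtPrime P) K₀ L := IsScalarTower.of_algebraMap_eq fun _ => rfl
  obtain ⟨W, hW1, hW2, hW3⟩ := exists_dvr_dominating_of_krullDimLE_one (L := L) K₀ hD
  have hval : ∀ b : B₁, algebraMap (Localization.AtPrime P) L (algebraMap B₁ _ b) = ((b : K₀) : L) := by
    intro b
    rw [IsScalarTower.algebraMap_apply (Localization.AtPrime P) K₀ L,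
      ← IsScalarTower.algebraMap_apply B₁ (Localization.AtPrime P) K₀]
    rfl
  have hmapA : ∀ a : A, algebraMap A L a =
      algebraMap (Localization.AtPrime P) L (algebraMap B₁ _ (algebraMap A B₁ a)) := fun a => by
    rw [hval]; rfl
  refine ⟨W, hW1, fun a => hmapA a ▸ hW2 _, fun a ha => ?_⟩
  rw [hmapA]
  refine hW3 _ ?_
  rw [← Localization.AtPrime.map_eq_maximalIdeal]
  refine Ideal.mem_map_of_mem _ ?_
  rw [← hgm] at ha
  have hgle : maximalIdeal A ≤ P.comap (algebraMap A B₁) := by
    rw [← hgm, Submodule.span_le]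
    intro a' ha'
    have hmem : algebraMap A K₀ a' ∈ P0 := Or.inl ⟨a', ha', rfl⟩
    have : algebraMap A B₁ a' = xB * ⟨algebraMap A K₀ a' / x, Algebra.subset_adjoin (Or.inr ⟨_, hmem, rfl⟩)⟩ :=
      Subtype.ext (mul_div_cancel₀ _ hx0).symm
    show algebraMap A B₁ a' ∈ P
    rw [this]
    exact P.mul_mem_right _ hxP'
  rw [hgm] at ha
  exact hgle ha

end Groth.Agent.DVRDom
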